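import Mathlib

set_option autoImplicit false
universe u

namespace Groth.Agent.Tors8

variable {A : Type u} [CommRing A] [IsLocalRing A] {t : A}
  {B : Type u} [CommRing B] [Algebra A B]

local notation "mB" => Ideal.map (algebraMap A B) (IsLocalRing.maximalIdeal A)

omit [IsLocalRing A] in
theorem t_mul_eq [IsLocalRing A] [Module.Flat A B] (ht0 : t ≠ 0)
    (htm : ∀ a ∈ IsLocalRing.maximalIdeal A, a * t = 0) (x y : B) :
    algebraMap A B t * x = algebraMap A B t * y ↔ x - y ∈ mB := by
  rw [← sub_eq_zero, ← mul_sub]
  generalize x - y = z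
  constructor
  · intro hz
    let μ : A →ₗ[A] A := LinearMap.mulRight A t
    have hker : LinearMap.ker μ = IsLocalRing.maximalIdeal A := by
      refine le_antisymm (fun a ha => ?_) (fun a ha => htm a ha)
      by_contra hau
      exact ht0 ((IsLocalRing.notMem_maximalIdeal.mp hau).mul_right_eq_zero.mp ha)
    have hex : Function.Exact (LinearMap.ker μ).subtype μ := LinearMap.exact_subtype_ker_map μ
    have h1 : μ.lTensor B (z ⊗ₜ[A] (1 : A)) = 0 := by
      apply (TensorProduct.rid A B).injective
      simp [μ, Algebra.smul_def, hz]
    obtain ⟨w, hw⟩ := (Module.Flat.lTensor_exact B hex _).mp h1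
    have h2 : z = TensorProduct.rid A B ((LinearMap.ker μ).subtype.lTensor B w) := by rw [hw]; simp
    rw [h2]
    clear hw h2
    induction w using TensorProduct.induction_on with
    | zero => simp
    | tmul b a =>
      simp only [LinearMap.lTensor_tmul, TensorProduct.rid_tmul, Algebra.smul_def]
      exact Ideal.mul_mem_right _ _ (Ideal.mem_map_of_mem _ (hker ▸ a.2))
    | add p q hp hq => rw [map_add, map_add]; exact add_mem hp hq
  · intro hz
    refine Submodule.span_induction ?_ (mul_zero _) (fun a b _ _ ha hb => by rw [mul_add, ha, hb, add_zero])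
      (fun r a _ ha => by rw [smul_eq_mul, mul_left_comm, ha, mul_zero]) hz
    rintro _ ⟨a, ha, rfl⟩
    rw [← map_mul, mul_comm, htm a ha, map_zero]

theorem torsor {k : Type u} [Field k] [Algebra k A]
    (hres : ∀ a : A, ∃ c : k, a - algebraMap k A c ∈ IsLocalRing.maximalIdeal A)
    (ht : t ∈ IsLocalRing.maximalIdeal A) (ht0 : t ≠ 0)
    (htm : ∀ a ∈ IsLocalRing.maximalIdeal A, a * t = 0)
    [Module.Flat A B] [Algebra k B] [IsScalarTower k A B]
    (σ : (B ⧸ Ideal.span {algebraMap A B t}) ≃ₐ[A] (B ⧸ Ideal.span {algebraMap A B t}))
    (τ : B ≃ₐ[A] B)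
    (hτ : ∀ b : B, Ideal.Quotient.mk (Ideal.span {algebraMap A B t}) (τ b) =
      σ (Ideal.Quotient.mk (Ideal.span {algebraMap A B t}) b))
    (hτ0 : ∀ b : B, τ b - b ∈ mB) :
    (∀ η : B ≃ₐ[A] B, (∀ b : B, Ideal.Quotient.mk (Ideal.span {algebraMap A B t}) (η b) =
        σ (Ideal.Quotient.mk (Ideal.span {algebraMap A B t}) b)) →
      ∃! d : Derivation k (B ⧸ mB) (B ⧸ mB),
        ∀ b b' : B, Ideal.Quotient.mk mB b' = d (Ideal.Quotient.mk mB b) →
          η b = τ b + algebraMap A B t * b') ∧
    (∀ d : Derivation k (B ⧸ mB) (B ⧸ mB),
      ∃ η : B ≃ₐ[A] B, (∀ b : B, Ideal.Quotient.mk (Ideal.span {algebraMap A B t}) (η b) =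
          σ (Ideal.Quotient.mk (Ideal.span {algebraMap A B t}) b)) ∧
        ∀ b b' : B, Ideal.Quotient.mk mB b' = d (Ideal.Quotient.mk mB b) →
          η b = τ b + algebraMap A B t * b') := by
  classical
  have key : ∀ x y : B, algebraMap A B t * x = algebraMap A B t * y ↔
      Ideal.Quotient.mk mB x = Ideal.Quotient.mk mB y := fun x y => by
    rw [t_mul_eq ht0 htm, Ideal.Quotient.eq]
  have htt : algebraMap A B t * algebraMap A B t = 0 := by rw [← map_mul, htm t ht, map_zero]
  have hτb : ∀ b, Ideal.Quotient.mk mB (τ b) = Ideal.Quotient.mk mB b := fun b => Ideal.Quotient.eq.mpr (hτ0 b)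
  constructor
  · intro η hη
    have hex : ∀ b, ∃ e, η b = τ b + algebraMap A B t * e := fun b => by
      obtain ⟨e, he⟩ := Ideal.mem_span_singleton'.mp (Ideal.Quotient.eq.mp ((hη b).trans (hτ b).symm))
      exact ⟨e, by rw [mul_comm, he, add_sub_cancel]⟩
    choose e he using hex
    have hwell : ∀ b b', Ideal.Quotient.mk mB b = Ideal.Quotient.mk mB b' →
        Ideal.Quotient.mk mB (e b) = Ideal.Quotient.mk mB (e b') := by
      intro b b' h
      have hz : algebraMap A B t * e (b - b') = 0 := by
        have hm : b - b' ∈ mB := Ideal.Quotient.eq.mp h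
        have : η (b - b') - τ (b - b') = 0 := by
          refine Submodule.span_induction ?_ (by simp)
            (fun x y _ _ hx hy => by rw [map_add, map_add, add_sub_add_comm, hx, hy, add_zero])
            (fun r x _ hx => by
              rw [smul_eq_mul, map_mul, map_mul, sub_eq_zero.mp hx, ← sub_mul, he r, add_sub_cancel_left]
              obtain ⟨w, hw⟩ : ∃ w, τ x = w := ⟨_, rfl⟩
              have h1 : τ x ∈ mB := by
                have := hτ0 x
                have hx' : x ∈ mB := by assumption
                simpa using add_mem this hx'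
              have := ((t_mul_eq ht0 htm (τ x) 0).mpr (by simpa using h1))
              rw [mul_zero] at this
              rw [mul_right_comm, this, zero_mul]) hm
          rintro _ ⟨a, -, rfl⟩
          rw [AlgEquiv.commutes, AlgEquiv.commutes, sub_self]
        rw [he, add_sub_cancel_left] at this
        exact this
      have h2 : algebraMap A B t * e b = algebraMap A B t * e b' := by
        have h3 : η (b - b') = τ (b - b') := by rw [he, hz, add_zero]
        rw [map_sub, map_sub, he b, he b'] at h3
        linear_combination h3
      exact (key _ _).mp h2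
    let df : B ⧸ mB → B ⧸ mB := fun q => Ideal.Quotient.mk mB (e (Function.surjInv Ideal.Quotient.mk_surjective q))
    have hdf : ∀ b, df (Ideal.Quotient.mk mB b) = Ideal.Quotient.mk mB (e b) := fun b =>
      hwell _ _ (Function.surjInv_eq Ideal.Quotient.mk_surjective _)
    have hadd : ∀ x y, df (x + y) = df x + df y := by
      intro x y
      obtain ⟨a, rfl⟩ := Ideal.Quotient.mk_surjective x
      obtain ⟨b, rfl⟩ := Ideal.Quotient.mk_surjective y
      rw [← map_add, hdf, hdf, hdf, ← map_add, ← key]
      have := (he (a + b)).symm.trans ((map_add η a b).trans (by rw [he a, he b]))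
      rw [map_add] at this
      linear_combination this
    have hsmul : ∀ (c : k) x, df (c • x) = c • df x := by
      intro c x
      obtain ⟨a, rfl⟩ := Ideal.Quotient.mk_surjective x
      have h1 : ∀ z : B, c • Ideal.Quotient.mk mB z = Ideal.Quotient.mk mB (algebraMap A B (algebraMap k A c) * z) := fun z => by
        rw [← IsScalarTower.algebraMap_apply, Algebra.smul_def, map_mul]; rfl
      rw [h1, hdf, hdf, h1, ← key]
      have := (he (algebraMap A B (algebraMap k A c) * a)).symm
      rw [map_mul, map_mul, AlgEquiv.commutes, AlgEquiv.commutes, he a] at this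
      linear_combination this
    let D : Derivation k (B ⧸ mB) (B ⧸ mB) := Derivation.mk' ⟨⟨df, hadd⟩, hsmul⟩ (fun x y => by
      obtain ⟨a, rfl⟩ := Ideal.Quotient.mk_surjective x
      obtain ⟨b, rfl⟩ := Ideal.Quotient.mk_surjective y
      show df (_ * _) = Ideal.Quotient.mk mB a • df _ + Ideal.Quotient.mk mB b • df _
      rw [← map_mul, hdf, hdf, hdf, smul_eq_mul, smul_eq_mul]
      rw [show Ideal.Quotient.mk mB a * Ideal.Quotient.mk mB (e b) + Ideal.Quotient.mk mB b * Ideal.Quotient.mk mB (e a) =
        Ideal.Quotient.mk mB (τ a * e b + τ b * e a) by rw [map_add, map_mul, map_mul, hτb, hτb], ← key]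
      have := (he (a * b)).symm.trans ((map_mul η a b).trans (by rw [he a, he b]))
      rw [map_mul] at this
      linear_combination this + e a * e b * htt)
    refine ⟨D, fun b b' hb' => ?_, fun d hd => ?_⟩
    · rw [he, add_right_inj, key, hb']
      exact (hdf b).symm
    · ext x
      obtain ⟨b, rfl⟩ := Ideal.Quotient.mk_surjective x
      obtain ⟨b', hb'⟩ := Ideal.Quotient.mk_surjective (d (Ideal.Quotient.mk mB b))
      have := hd b b' hb'
      rw [he, add_right_inj, key, hb'] at this
      exact this.symm.trans (hdf b).symm
  · intro d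
    let e : B → B := fun b => Function.surjInv Ideal.Quotient.mk_surjective (d (Ideal.Quotient.mk mB b))
    have he : ∀ b, Ideal.Quotient.mk mB (e b) = d (Ideal.Quotient.mk mB b) := fun b => Function.surjInv_eq _ _
    let φ : B →ₐ[A] B :=
      { toFun := fun b => τ b + algebraMap A B t * e b
        map_one' := by
          have : algebraMap A B t * e 1 = algebraMap A B t * 0 := by
            rw [key, he, map_one, Derivation.map_one_eq_zero, map_zero]
          rw [map_one, this, mul_zero, add_zero]
        map_mul' := fun a b => by
          have : algebraMap A B t * e (a * b) = algebraMap A B t * (τ a * e b + τ b * e a) := by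
            rw [key, he, map_mul, Derivation.leibniz, map_add, map_mul, map_mul, hτb, hτb, he, he, smul_eq_mul, smul_eq_mul]
          rw [this, map_mul]
          linear_combination (-(e a * e b)) * htt
        map_zero' := by
          have : algebraMap A B t * e 0 = algebraMap A B t * 0 := by rw [key, he, map_zero, map_zero]
          rw [map_zero, this, mul_zero, add_zero]
        map_add' := fun a b => by
          have : algebraMap A B t * e (a + b) = algebraMap A B t * (e a + e b) := by
            rw [key, he, map_add, map_add, map_add, he, he]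
          rw [this, map_add]; ring
        commutes' := fun a => by
          have : algebraMap A B t * e (algebraMap A B a) = algebraMap A B t * 0 := by
            rw [key, he]
            obtain ⟨c, hc⟩ := hres a
            have h1 : Ideal.Quotient.mk mB (algebraMap A B a) = algebraMap k (B ⧸ mB) c := by
              rw [show algebraMap k (B ⧸ mB) c = Ideal.Quotient.mk mB (algebraMap k B c) from rfl,
                IsScalarTower.algebraMap_apply k A B, Ideal.Quotient.eq, ← map_sub]
              exact Ideal.mem_map_of_mem _ hc
            rw [h1, Derivation.map_algebraMap, map_zero]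
          rw [this, mul_zero, add_zero, AlgEquiv.commutes] }
    have hφ : ∀ b, φ b = τ b + algebraMap A B t * e b := fun _ => rfl
    have hφt : ∀ z, φ (algebraMap A B t * z) = algebraMap A B t * z := by
      intro z
      rw [map_mul, AlgHom.commutes, hφ, mul_add, ← mul_assoc (algebraMap A B t) (algebraMap A B t), htt, zero_mul, add_zero, key, hτb]
    have hbij : Function.Bijective φ := by
      constructor
      · rw [injective_iff_map_eq_zero]
        intro b hb
        obtain ⟨z, rfl⟩ : ∃ z, b = algebraMap A B t * z := by
          refine ⟨τ.symm (-e b), τ.injective ?_⟩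
          rw [map_mul, AlgEquiv.commutes, AlgEquiv.apply_symm_apply]
          rw [hφ] at hb
          linear_combination hb
        rw [hφt] at hb
        exact hb
      · intro y
        refine ⟨τ.symm y + algebraMap A B t * (-e (τ.symm y)), ?_⟩
        rw [map_add, hφt, hφ, AlgEquiv.apply_symm_apply]
        ring
    refine ⟨AlgEquiv.ofBijective φ hbij, fun b => ?_, fun b b' hb' => ?_⟩
    · show Ideal.Quotient.mk _ (φ b) = _
      rw [← hτ, hφ, Ideal.Quotient.eq, add_sub_cancel_left]
      exact Ideal.mul_mem_right _ _ (Ideal.mem_span_singleton_self _)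
    · show φ b = _
      rw [hφ, add_right_inj, key, he, hb']

end Groth.Agent.Tors8
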